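import Groth.Agent.Lib.SurfRR28.Effective
import Groth.Agent.Lib.ConnH0.Basic
import Groth.Agent.Lib.Euler.Section

/-!
# An integral curve on a surface
-/

set_option autoImplicit false
set_option maxHeartbeats 800000
set_option backward.isDefEq.respectTransparency false
set_option linter.all false

universe u

open CategoryTheory CategoryTheory.Limits AlgebraicGeometry TopologicalSpace

noncomputable section

namespace GrothLib.SurfRR28

open GrothLib.Cube (Pic clsMod)
open GrothLib.HodgeIndex (isect cCl)

variable (k : Type u) [Field k] [IsAlgClosed k] {X : Scheme.{u}} [X.Over (Spec (CommRingCat.of k))]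
  [IsProper (X ↘ Spec (CommRingCat.of k))] (C : X.IdealSheafData) (hCi : IsIntegral C.subscheme)
  (hCd : topologicalKrullDim (C.support : Set X) = 1)

theorem dim_subscheme_eq {C : X.IdealSheafData} (hCd : topologicalKrullDim (C.support : Set X) = 1) :
    topologicalKrullDim C.subscheme = 1 := by
  rw [C.subschemeι.isClosedEmbedding.isEmbedding.toHomeomorph.isHomeomorph.topologicalKrullDim_eq,
    C.range_subschemeι, hCd]

include hCi in
theorem finrank_H0_quotMod : Module.finrank k (Coh.HH X (ClSub.quotMod C) 0) = 1 := by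
  letI : C.subscheme.Over (Spec (CommRingCat.of k)) := ⟨C.subschemeι ≫ X ↘ Spec (CommRingCat.of k)⟩
  haveI : IsProper (C.subscheme ↘ Spec (CommRingCat.of k)) :=
    inferInstanceAs (IsProper (C.subschemeι ≫ X ↘ Spec (CommRingCat.of k)))
  haveI := hCi
  haveI := Cohom.isQuasicoherent_structureModule C.subscheme
  obtain ⟨e⟩ := Snapper.nonempty_HH_linearEquiv_pushforward (A := k) C.subschemeι rfl
    (Coh.structureModule C.subscheme) 0
  exact e.finrank_eq.symm.trans (ConnH0.finrank_H0_eq_one k)

include hCi hCd in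
theorem euler_quotMod_curve : Curv2.euler k X (ClSub.quotMod C) =
    1 - (letI : C.subscheme.Over (Spec (CommRingCat.of k)) := ⟨C.subschemeι ≫ X ↘ Spec (CommRingCat.of k)⟩
      (Curv2.genus k C.subscheme : ℤ)) := by
  letI : C.subscheme.Over (Spec (CommRingCat.of k)) := ⟨C.subschemeι ≫ X ↘ Spec (CommRingCat.of k)⟩
  haveI : IsProper (C.subscheme ↘ Spec (CommRingCat.of k)) :=
    inferInstanceAs (IsProper (C.subschemeι ≫ X ↘ Spec (CommRingCat.of k)))
  haveI := hCi
  rw [Snapper.euler_quotMod k C, Euler.euler_structure k (dim_subscheme_eq hCd).le, ConnH0.finrank_H0_eq_one k]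
  rfl

variable [IsIntegral X] (hdim : topologicalKrullDim X = ((2 : ℕ) : WithBot ℕ∞))
  [Smooth (X ↘ Spec (CommRingCat.of k))]

include k hdim hCi hCd in
/-- The ideal of a curve has no section. -/
theorem subsingleton_H0_idealMod {A : X.Modules} (hA : CohB1.IsAmple A) :
    Subsingleton (Coh.HH X (ClSub.idealMod C) 0) := by
  by_contra hne
  rw [not_subsingleton_iff_nontrivial] at hne
  have hI := HodgeIndex.inv_curve k hdim hCi hCd
  have h1 := HodgeIndex.isect_nonneg_of_pLe k hdim hA (pLe_one_of_nontrivial hI hne)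
  have h2 := HodgeIndex.isect_ample_curve_pos k hdim hCi hCd hA
  have hc : cCl C = (clsMod hI)⁻¹ := by rw [cCl, dif_pos hI]
  rw [hc, HodgeIndex.isect_inv_right k hdim.le, HodgeIndex.isect_comm] at h2
  omega

include k hdim hCi hCd in
/-- `H¹` of the ideal of an integral curve on a surface with `H¹(O) = 0`. -/
theorem subsingleton_H1_idealMod {A : X.Modules} (hA : CohB1.IsAmple A)
    (hq : Subsingleton (Coh.HH X (Coh.structureModule X) 1)) :
    Subsingleton (Coh.HH X (ClSub.idealMod C) 1) := by
  haveI := Euler.isNoetherian_of_proper (X := X) k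
  haveI := Euler.epi_toSubscheme C
  let S := ShortComplex.mk (ClSub.idealModι C) (ClSub.toSubscheme C) (kernel.condition _)
  haveI : Mono S.f := inferInstanceAs (Mono (kernel.ι (ClSub.toSubscheme C)))
  haveI : Epi S.g := Euler.epi_toSubscheme C
  have hS : S.ShortExact := { exact := ShortComplex.exact_of_f_is_kernel _ (kernelIsKernel _) }
  haveI := Euler.finiteDimensional_HH k (Kleiman.isCoh_O (X := X) k) 0
  haveI : FiniteDimensional k (Coh.HH X S.X₃ 0) :=
    Euler.finiteDimensional_HH k (QCoh.pushUnit_isCoh C.subschemeι) 0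
  haveI : Subsingleton (Coh.HH X S.X₁ 0) := subsingleton_H0_idealMod k C hCi hCd hdim hA
  have hinj : Function.Injective (Cohom.hhMap k S.g 0) := (injective_iff_map_eq_zero _).2 fun x hx => by
    obtain ⟨w, rfl⟩ := (Cohom.exact₂ hS 0 x).1 hx
    rw [Subsingleton.elim w 0, map_zero]
  have hsurj : Function.Surjective (Cohom.hhMap k S.g 0) :=
    (LinearMap.injective_iff_surjective_of_finrank_eq_finrank
      ((ConnH0.finrank_H0_eq_one k).trans (finrank_H0_quotMod k C hCi).symm)).1 hinj
  refine subsingleton_of_forall_eq 0 fun x => ?_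
  obtain ⟨w, rfl⟩ := (Cohom.exact₁ (A := k) hS 0 x).1 (@Subsingleton.elim _ hq _ _)
  obtain ⟨v, rfl⟩ := hsurj w
  exact (Cohom.exact₃ hS 0 _).2 ⟨v, rfl⟩

end GrothLib.SurfRR28
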