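import Groth.Agent.Lib.HodgeIndex.Real
import Groth.Agent.Lib.HodgeIndex.Pullback
import Groth.Agent.Lib.ArSurf29.H0Quot
import Groth.Agent.Lib.BlowUp.EffCartier
import Groth.Agent.Lib.DefLift26.Basic
import Groth.Agent.Lib.CodimExt27.Basic
import Groth.Agent.Lib.Euler.Divisor
import Groth.Agent.Lib.SurfRR28.Curve
import Groth.Agent.Lib.GVanish.Main

/-!
# Proper intersection of two effective divisors on a Cohen–Macaulay surface
-/

set_option autoImplicit false
set_option maxHeartbeats 4000000
set_option backward.isDefEq.respectTransparency false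
set_option linter.all false

universe u

open CategoryTheory CategoryTheory.Limits AlgebraicGeometry TopologicalSpace IsLocalRing

noncomputable section

namespace GrothLib.SurfRR28

open GrothLib.Cube (Pic clsMod)

variable (k : Type u) [Field k] {X : Scheme.{u}} [X.Over (Spec (CommRingCat.of k))]
  [IsProper (X ↘ Spec (CommRingCat.of k))]

include k in
/-- The pairing of the statements is `isect`, on any proper scheme of dimension at most two. -/
theorem intNum_eq_isect' (hd : topologicalKrullDim X ≤ ((2 : ℕ) : WithBot ℕ∞)) {L M : X.Modules}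
    (hL : PicF.IsInvertible L) (hM : PicF.IsInvertible M) :
    FGA.intNum k X 2 ![L, M] (Coh.structureModule X) = HodgeIndex.isect k (clsMod hL) (clsMod hM) := by
  haveI := Euler.isNoetherian_of_proper (X := X) k
  have hO := Euler.isInvertible_structure (X := X)
  have hO1 : clsMod hO = 1 := (Cube.clsMod_eq_one_iff hO).2 ⟨Iso.refl _⟩
  haveI : NoetherianSpace X.toTopCat := (inferInstance : NoetherianSpace X)
  have hle : ∀ (E : X.Modules) (hE : PicF.IsInvertible E), FGA.eulerCharLE k X E 2 = HodgeIndex.chi k (clsMod hE) := by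
    intro E hE
    rw [← HodgeIndex.euler_eq_chi k hE, Euler.euler_eq_sum k E (N := 3) fun i hi =>
      GVanish.subsingleton_H_of_krullDim_le (X := X.toTopCat) 2 hd _ i (by omega)]
    rfl
  have i1 := Ample.isInvertible_tensorMod hO hO
  have iL := Ample.isInvertible_tensorMod hL hO
  have iM := Ample.isInvertible_tensorMod hM hO
  have iLM := Ample.isInvertible_tensorMod hL iM
  rw [HodgeIndex.intNum_two, hle _ i1, hle _ (Ample.isInvertible_tensorMod iL hO),
    hle _ (Ample.isInvertible_tensorMod iM hO), hle _ (Ample.isInvertible_tensorMod iLM hO)]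
  simp only [Cube.clsMod_tensorMod hO hO, Cube.clsMod_tensorMod iL hO, Cube.clsMod_tensorMod iM hO,
    Cube.clsMod_tensorMod iLM hO, Cube.clsMod_tensorMod hL hO, Cube.clsMod_tensorMod hM hO,
    Cube.clsMod_tensorMod hL iM, hO1, mul_one, HodgeIndex.isect]

include k in
/-- The points of a finite closed subset are closed. -/
theorem isClosed_singleton_of_finite {S : Set X} (hS : IsClosed S) (hfin : S.Finite) {y : X} (hy : y ∈ S) :
    IsClosed ({y} : Set X) := by
  haveI : JacobsonSpace X := LocallyOfFiniteType.jacobsonSpace (X ↘ Spec (CommRingCat.of k))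
  have h1 : IsClosed (S ∩ closedPoints X) := by
    rw [show S ∩ closedPoints X = ⋃ z ∈ S ∩ closedPoints X, {z} from (Set.biUnion_of_singleton _).symm]
    exact (hfin.subset Set.inter_subset_left).isClosed_biUnion fun z hz => hz.2
  have h2 := JacobsonSpace.closure_inter_closedPoints_eq_closure hS.isLocallyClosed
  rw [h1.closure_eq, hS.closure_eq] at h2
  rw [← h2] at hy
  exact hy.2

/-- A common affine neighbourhood on which two locally principal ideals are principal. -/
theorem exists_common_principal {IC ID : X.IdealSheafData} (hC : FGA.IsEffCartier IC) (hD : FGA.IsEffCartier ID)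
    (x : X) : ∃ (U : X.affineOpens) (f g : Γ(X, U.1)), x ∈ U.1 ∧ IC.ideal U = Ideal.span {f} ∧
      ID.ideal U = Ideal.span {g} := by
  obtain ⟨U₁, h₁, a, -, ea⟩ := hC x
  obtain ⟨U₂, h₂, b, -, eb⟩ := hD x
  obtain ⟨V, hxV, hV⟩ := GrothLib.BlowUp.exists_affine_mem_le (W := U₁.1 ⊓ U₂.1) (x := x) ⟨h₁, h₂⟩
  refine ⟨V, (X.presheaf.map (homOfLE (hV.trans inf_le_left)).op).hom a,
    (X.presheaf.map (homOfLE (hV.trans inf_le_right)).op).hom b, hxV, ?_, ?_⟩
  · rw [← IC.map_ideal (U := V) (V := U₁) (hV.trans inf_le_left), ea, Ideal.map_span, Set.image_singleton]; rfl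
  · rw [← ID.map_ideal (U := V) (V := U₂) (hV.trans inf_le_right), eb, Ideal.map_span, Set.image_singleton]; rfl

/-- In a two-dimensional Cohen–Macaulay local ring two parameters form a regular sequence. -/
theorem mem_span_of_mul_mem_local (R : Type u) [CommRing R] [LocCoh.IsCohenMacaulayLocalRing R]
    (hR : ringKrullDim R = ((2 : ℕ) : WithBot ℕ∞)) {f g b : R} (hf : f ∈ maximalIdeal R) (hg : g ∈ maximalIdeal R)
    (hQ : ∀ Q : Ideal R, Q.IsPrime → f ∈ Q → g ∈ Q → Q = maximalIdeal R) (hb : g * b ∈ Ideal.span {f}) :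
    b ∈ Ideal.span {f} := by
  have hle : Ideal.ofList [f, g] ≤ maximalIdeal R := Ideal.span_le.2 fun r hr => by
    simp only [Set.mem_setOf_eq, List.mem_cons, List.not_mem_nil, or_false] at hr
    rcases hr with rfl | rfl
    · exact hf
    · exact hg
  haveI : Nontrivial (R ⧸ Ideal.ofList [f, g]) :=
    Ideal.Quotient.nontrivial_iff.2 fun h => (maximalIdeal.isMaximal R).ne_top (top_le_iff.1 (h ▸ hle))
  haveI : Ring.KrullDimLE 0 (R ⧸ Ideal.ofList [f, g]) :=
    Ideal.krullDimLE_zero_quotient_iff_forall_minimalPrimes_isMaximal.2 fun J hJ =>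
      (hQ J hJ.1.1 (hJ.1.2 (Ideal.subset_span (by simp))) (hJ.1.2 (Ideal.subset_span (by simp)))).symm ▸
        maximalIdeal.isMaximal R
  have hreg := DefLift.isWeaklyRegular_of_cm R [f, g] (fun r hr => by
    simp only [List.mem_cons, List.not_mem_nil, or_false] at hr
    rcases hr with rfl | rfl
    · exact hf
    · exact hg) (by
    rw [ringKrullDimZero_iff_ringKrullDim_eq_zero.1 inferInstance, zero_add, hR]
    rfl)
  rw [RingTheory.Sequence.isWeaklyRegular_cons_iff, RingTheory.Sequence.isWeaklyRegular_cons_iff] at hreg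
  have h2 : g • (Submodule.Quotient.mk b : QuotSMulTop f R) = 0 := by
    rw [← Submodule.Quotient.mk_smul, Submodule.Quotient.mk_eq_zero]
    obtain ⟨c, hc⟩ := Ideal.mem_span_singleton'.1 hb
    exact (Submodule.mem_smul_pointwise_iff_exists _ _ _).2 ⟨c, Submodule.mem_top, by
      rw [smul_eq_mul, mul_comm, hc, smul_eq_mul]⟩
  have h3 : (Submodule.Quotient.mk b : QuotSMulTop f R) = 0 := hreg.2.1 (h2.trans (smul_zero _).symm)
  rw [Submodule.Quotient.mk_eq_zero] at h3
  obtain ⟨c, -, hc⟩ := (Submodule.mem_smul_pointwise_iff_exists _ _ _).1 h3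
  exact Ideal.mem_span_singleton'.2 ⟨c, by rw [← hc, smul_eq_mul, mul_comm]⟩

variable {IC ID : X.IdealSheafData} (hC : FGA.IsEffCartier IC) (hD : FGA.IsEffCartier ID)
  (hfin : ((IC ⊔ ID).support : Set X).Finite)
  (hdim : ∀ Z ∈ irreducibleComponents (X : Type u), topologicalKrullDim Z = ((2 : ℕ) : WithBot ℕ∞))
  (hCM : ∀ x : X, LocCoh.IsCohenMacaulayLocalRing (X.presheaf.stalk x))

include k hfin hdim hCM in
/-- The equation of one divisor is regular on the other. -/
theorem mem_span_of_mul_mem {U : X.affineOpens} {f g : Γ(X, U.1)} (hf : IC.ideal U = Ideal.span {f})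
    (hg : ID.ideal U = Ideal.span {g}) {b : Γ(X, U.1)} (hb : g * b ∈ Ideal.span {f}) : b ∈ Ideal.span {f} := by
  by_contra hne
  let J : Ideal Γ(X, U.1) :=
    Submodule.comap (LinearMap.toSpanSingleton Γ(X, U.1) Γ(X, U.1) b) (Ideal.span {f})
  obtain ⟨P, hP, hJP⟩ := J.exists_le_maximal (fun h => hne (by
    have h1 : (1 : Γ(X, U.1)) • b ∈ Ideal.span {f} := (h ▸ Submodule.mem_top : (1 : Γ(X, U.1)) ∈ J)
    rwa [one_smul] at h1))
  have hfP : f ∈ P := hJP (show f * b ∈ Ideal.span {f} from
    Ideal.mul_mem_right b _ (Ideal.mem_span_singleton_self f))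
  have hgP : g ∈ P := hJP (show g * b ∈ Ideal.span {f} from hb)
  let p : PrimeSpectrum Γ(X, U.1) := ⟨P, hP.isPrime⟩
  let x : X := U.2.fromSpec p
  have hxU : x ∈ U.1 := by
    have h : x ∈ Set.range U.2.fromSpec := ⟨p, rfl⟩
    rwa [U.2.range_fromSpec] at h
  have hmem : ∀ q : PrimeSpectrum Γ(X, U.1), f ∈ q.asIdeal → g ∈ q.asIdeal →
      U.2.fromSpec q ∈ ((IC ⊔ ID).support : Set X) := by
    intro q h1 h2
    have h3 : U.2.fromSpec q ∈ U.2.fromSpec '' PrimeSpectrum.zeroLocus ((IC ⊔ ID).ideal U : Set Γ(X, U.1)) := by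
      refine ⟨q, ?_, rfl⟩
      rw [PrimeSpectrum.mem_zeroLocus, Scheme.IdealSheafData.ideal_sup, Pi.sup_apply, hf, hg, ← Ideal.span_union]
      exact Ideal.span_le.2 (Set.union_subset (Set.singleton_subset_iff.2 h1) (Set.singleton_subset_iff.2 h2))
    rw [U.2.fromSpec_image_zeroLocus, ← (IC ⊔ ID).coe_support_inter U] at h3
    exact h3.1
  have hxc : IsClosed ({x} : Set X) :=
    isClosed_singleton_of_finite k (IC ⊔ ID).support.isClosed hfin (hmem p hfP hgP)
  letI : Algebra Γ(X, U.1) (X.presheaf.stalk x) := (TopCat.Presheaf.algebra_section_stalk X.presheaf ⟨x, hxU⟩)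
  haveI : IsLocalization.AtPrime (X.presheaf.stalk x) P := U.2.isLocalization_stalk' p hxU
  haveI := hCM x
  let R := X.presheaf.stalk x
  let φ := algebraMap Γ(X, U.1) R
  have hm : ∀ c ∈ P, φ c ∈ maximalIdeal R := fun c hc => (IsLocalization.AtPrime.to_map_mem_maximal_iff R P c).2 hc
  have hQ : ∀ Q : Ideal R, Q.IsPrime → φ f ∈ Q → φ g ∈ Q → Q = maximalIdeal R := by
    intro Q hQp h1 h2
    let q : PrimeSpectrum Γ(X, U.1) := ⟨Q.comap φ, inferInstance⟩
    have hqP : q.asIdeal ≤ P := by
      intro c hc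
      exact (IsLocalization.AtPrime.to_map_mem_maximal_iff R P c).1 (IsLocalRing.le_maximalIdeal hQp.ne_top hc)
    have hyc := isClosed_singleton_of_finite k (IC ⊔ ID).support.isClosed hfin (hmem q h1 h2)
    have hs : U.2.fromSpec q ⤳ x := ((PrimeSpectrum.le_iff_specializes q p).1 hqP).map U.2.fromSpec.continuous
    have he : U.2.fromSpec q = x := (hs.mem_closed hyc rfl : x ∈ ({U.2.fromSpec q} : Set X)).symm
    have hqp : q = p := U.2.fromSpec.isOpenEmbedding.injective he
    rw [← IsLocalization.map_comap P.primeCompl R Q,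
      show Ideal.under Γ(X, U.1) Q = P from congrArg PrimeSpectrum.asIdeal hqp]
    exact IsLocalization.AtPrime.map_eq_maximalIdeal P R
  have hR : ringKrullDim R = ((2 : ℕ) : WithBot ℕ∞) := by
    have h := CodimExt27.ptDim_add_dim_stalk (X ↘ Spec (CommRingCat.of k)) hdim x
    rwa [AffDom.ptDim_closedPoint hxc, zero_add] at h
  have h1 : φ g * φ b ∈ Ideal.span {φ f} := by
    rw [← map_mul, ← Set.image_singleton (f := φ), ← Ideal.map_span]
    exact Ideal.mem_map_of_mem φ hb
  have hzero := mem_span_of_mul_mem_local R hR (hm f hfP) (hm g hgP) hQ h1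
  rw [← Set.image_singleton (f := φ), ← Ideal.map_span,
    IsLocalization.algebraMap_mem_map_algebraMap_iff P.primeCompl R] at hzero
  obtain ⟨s, hs, hsb⟩ := hzero
  exact hs (hJP hsb)

include k hC hD hfin hdim hCM in
theorem isEffCartier_comap_curve : _root_.BlowUp.IsEffCartierIdeal (ID.comap IC.subschemeι) := by
  intro z
  obtain ⟨U, f, g, hzU, hf, hg⟩ := exists_common_principal hC hD (IC.subschemeι z)
  refine ⟨⟨IC.subschemeι ⁻¹ᵁ U.1, U.2.preimage IC.subschemeι⟩, hzU, IC.subschemeι.app U.1 g, ?_, ?_⟩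
  · refine mem_nonZeroDivisors_iff_right.2 fun c hc => ?_
    obtain ⟨b, rfl⟩ := IC.subschemeι.app_surjective U.1 U.2 c
    have hker : RingHom.ker (IC.subschemeι.app U.1).hom = Ideal.span {f} := by
      rw [← hf, ← Scheme.Hom.ker_apply, Scheme.IdealSheafData.ker_subschemeι]
    have h1 : g * b ∈ Ideal.span {f} := by
      rw [← hker, RingHom.mem_ker, map_mul, mul_comm]
      exact hc
    have h2 := mem_span_of_mul_mem k hfin hdim hCM hf hg h1
    rw [← hker, RingHom.mem_ker] at h2
    exact h2
  · rw [GrothLib.BlowUp.ideal_comap_eq_map ID IC.subschemeι U ⟨IC.subschemeι ⁻¹ᵁ U.1, U.2.preimage IC.subschemeι⟩ le_rfl,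
      hg, Ideal.map_span, Set.image_singleton, Scheme.Hom.appLE_eq_app]

include k in
theorem euler_tensor_additive {S : ShortComplex X.Modules} (hS : S.ShortExact) (h₁ : Coh.IsCoh S.X₁)
    (h₂ : Coh.IsCoh S.X₂) (h₃ : Coh.IsCoh S.X₃) {M : X.Modules} (hM : FlatMod.IsFinLocFree M) :
    Curv2.euler k X (CohB1.tensorMod M S.X₂) =
      Curv2.euler k X (CohB1.tensorMod M S.X₁) + Curv2.euler k X (CohB1.tensorMod M S.X₃) := by
  haveI := Euler.isNoetherian_of_proper (X := X) k
  have h := Euler.euler_additive k (OX.tensor_map_shortExact (OX.flat_of_isFinLocFree hM) hS)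
    (Euler.isCoh_tF h₁ hM) (Euler.isCoh_tF h₂ hM) (Euler.isCoh_tF h₃ hM)
  simp only [ShortComplex.map_X₁, ShortComplex.map_X₂, ShortComplex.map_X₃] at h
  rw [Euler.euler_of_iso k (((OX.tensorBraiding (X := X)).app M).app S.X₁),
    Euler.euler_of_iso k (((OX.tensorBraiding (X := X)).app M).app S.X₃),
    Euler.euler_of_iso k (((OX.tensorBraiding (X := X)).app M).app S.X₂)] at h
  exact h

include k hC hD hfin hdim hCM in
/-- The intersection number of two divisors meeting in finitely many points. -/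
theorem intNum_effCartier :
    FGA.intNum k X 2 ![ClSub.idealMod IC, ClSub.idealMod ID] (Coh.structureModule X) =
      (Module.finrank k (Coh.HH X (ClSub.quotMod (IC ⊔ ID)) 0) : ℤ) := by
  haveI := Euler.isNoetherian_of_proper (X := X) k
  have hd : topologicalKrullDim X ≤ ((2 : ℕ) : WithBot ℕ∞) :=
    SerrePn27.topologicalKrullDim_le_of_components fun Z hZ => (hdim Z hZ).le
  have hIC := IdealModSec.isInvertible_of_isEffCartier hC
  have hID := IdealModSec.isInvertible_of_isEffCartier hD
  let ι := IC.subschemeι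
  letI : IC.subscheme.Over (Spec (CommRingCat.of k)) := ⟨ι ≫ X ↘ Spec (CommRingCat.of k)⟩
  haveI : IsProper (IC.subscheme ↘ Spec (CommRingCat.of k)) :=
    inferInstanceAs (IsProper (ι ≫ X ↘ Spec (CommRingCat.of k)))
  haveI := Euler.isNoetherian_of_proper (X := IC.subscheme) k
  have hCd : topologicalKrullDim IC.subscheme ≤ 1 := by
    rw [ι.isClosedEmbedding.isEmbedding.toHomeomorph.isHomeomorph.topologicalKrullDim_eq, IC.range_subschemeι]
    exact Snapper.dim_le_of_dimLT IC.support.isClosed
      (Snapper.dimLT_effCartier k hC (Kleiman.dimLT_univ hd))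
  have hE := isEffCartier_comap_curve k hC hD hfin hdim hCM
  have hEi := IdealModSec.isInvertible_of_isEffCartier hE
  obtain ⟨e⟩ : Nonempty ((Scheme.Modules.pullback ι).obj (ClSub.idealMod ID) ≅ ClSub.idealMod (ID.comap ι)) := by
    have hker : (ID.comap ι).subschemeι.ker = ID.subschemeι.ker.comap ι := by
      rw [Scheme.IdealSheafData.ker_subschemeι, Scheme.IdealSheafData.ker_subschemeι]
    obtain ⟨e⟩ := HodgeIndex.nonempty_pullback_idealMod ID.subschemeι (ID.comap ι).subschemeι
      ((ID.comap ι).subschemeMap ID ι (ID.le_map_comap ι)) ι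
      (Scheme.IdealSheafData.subschemeMap_subschemeι _ _ _ _).symm hker
      (by rw [Scheme.IdealSheafData.ker_subschemeι]; exact hID)
      (by rw [Scheme.IdealSheafData.ker_subschemeι]; exact hEi)
    rw [Scheme.IdealSheafData.ker_subschemeι, Scheme.IdealSheafData.ker_subschemeι] at e
    exact ⟨e⟩
  have hses : ∀ {Y : Scheme.{u}} [Y.Over (Spec (CommRingCat.of k))] [IsProper (Y ↘ Spec (CommRingCat.of k))]
      (I : Y.IdealSheafData), PicF.IsInvertible (ClSub.idealMod I) →
      Curv2.euler k Y (Coh.structureModule Y) = Curv2.euler k Y (ClSub.idealMod I) + Curv2.euler k Y (ClSub.quotMod I) := by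
    intro Y _ _ I hI
    haveI := Euler.isNoetherian_of_proper (X := Y) k
    haveI := Euler.epi_toSubscheme I
    let S := ShortComplex.mk (ClSub.idealModι I) (ClSub.toSubscheme I) (kernel.condition _)
    haveI : Mono S.f := inferInstanceAs (Mono (kernel.ι (ClSub.toSubscheme I)))
    haveI : Epi S.g := Euler.epi_toSubscheme I
    have hS : S.ShortExact := { exact := ShortComplex.exact_of_f_is_kernel _ (kernelIsKernel _) }
    have h := Euler.euler_additive k hS (Euler.isCoh_of_isInvertible hI) (Kleiman.isCoh_O (X := Y) k)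
      (QCoh.pushUnit_isCoh I.subschemeι)
    exact h
  have hCO : Curv2.euler k IC.subscheme (Coh.structureModule IC.subscheme) = Curv2.euler k X (ClSub.quotMod IC) :=
    (Snapper.euler_quotMod k IC).symm
  have hQ : Curv2.euler k X (CohB1.tensorMod (ClSub.quotMod IC) (ClSub.idealMod ID)) =
      Curv2.euler k IC.subscheme (ClSub.idealMod (ID.comap ι)) := by
    rw [← Euler.euler_of_iso k e, Kleiman.euler_pullback_eq_quotMod k ι rfl hID, Scheme.IdealSheafData.ker_subschemeι]
  have hQadd : Curv2.euler k X (ClSub.idealMod ID) = Curv2.euler k X (CohB1.tensorMod (ClSub.idealMod IC) (ClSub.idealMod ID)) +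
      Curv2.euler k X (CohB1.tensorMod (ClSub.quotMod IC) (ClSub.idealMod ID)) := by
    haveI := Euler.epi_toSubscheme IC
    let S := ShortComplex.mk (ClSub.idealModι IC) (ClSub.toSubscheme IC) (kernel.condition _)
    haveI : Mono S.f := inferInstanceAs (Mono (kernel.ι (ClSub.toSubscheme IC)))
    haveI : Epi S.g := Euler.epi_toSubscheme IC
    have hS : S.ShortExact := { exact := ShortComplex.exact_of_f_is_kernel _ (kernelIsKernel _) }
    have h := euler_tensor_additive k hS (Euler.isCoh_of_isInvertible hIC) (Kleiman.isCoh_O (X := X) k)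
      (QCoh.pushUnit_isCoh IC.subschemeι) (Euler.isFinLocFree_of_isInvertible hID)
    have h0 : Curv2.euler k X (CohB1.tensorMod (ClSub.idealMod ID) (Coh.structureModule X)) =
        Curv2.euler k X (ClSub.idealMod ID) := Kleiman.euler_tensor_structure k _
    have hc : ∀ G : X.Modules, Curv2.euler k X (CohB1.tensorMod (ClSub.idealMod ID) G) =
        Curv2.euler k X (CohB1.tensorMod G (ClSub.idealMod ID)) := fun G =>
      Euler.euler_of_iso k (GrTilde.tensorModComm (X := X) _ _)
    rw [← hc (ClSub.idealMod IC), ← hc (ClSub.quotMod IC)]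
    exact h0.symm.trans h
  have hh0 : Curv2.euler k IC.subscheme (ClSub.quotMod (ID.comap ι)) =
      (Module.finrank k (Coh.HH X (ClSub.quotMod (IC ⊔ ID)) 0) : ℤ) := by
    obtain ⟨hf1, hc1⟩ := Euler.divisor_finite_closed k hCd hE
    have hsupp := Snapper.support_quotMod (ID.comap ι)
    rw [Euler.euler_eq_of_finite_support k _ (hf1.subset hsupp) (fun x hx => hc1 x (hsupp hx)), Nat.cast_inj]
    let i := (ID.comap ι).subschemeι
    letI : (ID.comap ι).subscheme.Over (Spec (CommRingCat.of k)) := ⟨(i ≫ ι) ≫ X ↘ Spec (CommRingCat.of k)⟩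
    obtain ⟨e1⟩ := ArSurf29.nonempty_H0_quotMod_ker k i (Category.assoc _ _ _).symm
    rw [Scheme.IdealSheafData.ker_subschemeι] at e1
    obtain ⟨e2⟩ := ArSurf29.nonempty_H0_quotMod_ker k (Y := X) (i ≫ ι) rfl
    rw [ArSurf29.ker_subschemeι_comp_eq_sup, Scheme.IdealSheafData.ker_subschemeι, sup_comm] at e2
    rw [e1.finrank_eq, e2.finrank_eq]
  rw [intNum_eq_isect' k hd hIC hID, HodgeIndex.isect, ← Cube.clsMod_tensorMod hIC hID,
    HodgeIndex.chi_one k, ← HodgeIndex.euler_eq_chi k hIC, ← HodgeIndex.euler_eq_chi k hID,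
    ← HodgeIndex.euler_eq_chi k (Ample.isInvertible_tensorMod hIC hID)]
  have h1 := hses IC hIC
  have h2 := hses (ID.comap ι) hEi
  linarith

end GrothLib.SurfRR28
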