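import Groth.Agent.Lib.DualSm27.Serre
import Groth.Agent.Lib.HodgeIndex.Real
import Groth.Agent.Lib.HodgeIndex.ProjConv
import Groth.Agent.Lib.Kleiman.Proper
import Groth.Agent.Lib.LocFreeHom.Basic

/-!
# Riemann–Roch and adjunction on a smooth projective surface
-/

set_option autoImplicit false
set_option maxHeartbeats 800000
set_option backward.isDefEq.respectTransparency false
set_option linter.all false

universe u

open CategoryTheory CategoryTheory.Limits AlgebraicGeometry TopologicalSpace

noncomputable section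

namespace GrothLib.SurfRR28

open GrothLib.HodgeIndex (chi isect rep isInv_rep cls_rep)
open GrothLib.Cube (Pic clsMod)

/-- `Hom(L, W) ≅ M` when `L ⊗ M ≅ W` and `L` is invertible. -/
theorem nonempty_sheafHom_iso {X : Scheme.{u}} {L M W : X.Modules} (hL : PicF.IsInvertible L) [DCoh.HasSheafHom L]
    (u : CohB1.tensorMod L M ≅ W) : Nonempty ((DCoh.sheafHom L).obj W ≅ M) := by
  haveI := FundIso27.isEquivalence_tensor hL
  haveI : ((DCoh.tensorBi (X := X)).obj L).IsEquivalence :=
    Functor.isEquivalence_of_iso ((OX.tensorBraiding (X := X)).app L)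
  have v : ((DCoh.tensorBi (X := X)).obj L).obj M ≅ W := u
  exact ⟨(DCoh.sheafHom L).mapIso v.symm ≪≫ (asIso ((DCoh.sheafHomAdj L).unit.app M)).symm⟩

theorem topologicalKrullDim_le_two {k : Type u} [Field k] {X : Scheme.{u}} [X.Over (Spec (CommRingCat.of k))] {n : ℕ}
    (ι : X ⟶ CohB1.ProjSpace n k) [IsClosedImmersion ι]
    (hι : ι ≫ CohB1.ProjSpace.toSpec n k = X ↘ Spec (CommRingCat.of k))
    [SmoothOfRelativeDimension 2 (X ↘ Spec (CommRingCat.of k))] : topologicalKrullDim X ≤ ((2 : ℕ) : WithBot ℕ∞) :=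
  SerrePn27.topologicalKrullDim_le_of_components fun Z hZ => (DualSm27.component_dim k n 2 X ι hι Z hZ).le

variable (k : Type u) [Field k] {X : Scheme.{u}} [X.Over (Spec (CommRingCat.of k))]
  [IsProper (X ↘ Spec (CommRingCat.of k))] {n : ℕ}
  (ι : X ⟶ CohB1.ProjSpace n k) [IsClosedImmersion ι]
  (hι : ι ≫ CohB1.ProjSpace.toSpec n k = X ↘ Spec (CommRingCat.of k))
  [SmoothOfRelativeDimension 2 (X ↘ Spec (CommRingCat.of k))]
  (W : X.Modules) (hW : ExtPow.IsExtPow 2 (Omega.sheaf (X ↘ Spec (CommRingCat.of k))) W)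

include hι hW in
/-- Serre duality on dimensions. -/
theorem hh_serre [Nonempty X] (hWi : PicF.IsInvertible W) {L M : X.Modules} (hL : PicF.IsInvertible L)
    (hM : PicF.IsInvertible M) (h : clsMod hM = clsMod hWi * (clsMod hL)⁻¹) {p : ℕ} (hp : p ≤ 2) :
    Module.finrank k (Coh.HH X L p) = Module.finrank k (Coh.HH X M (2 - p)) := by
  haveI : DCoh.HasSheafHom L := LocFreeHom.hasSheafHom L
  obtain ⟨u⟩ : Nonempty (CohB1.tensorMod L M ≅ W) :=
    (Cube.clsMod_eq_iff (Ample.isInvertible_tensorMod hL hM) hWi).1 (by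
      rw [Cube.clsMod_tensorMod hL hM, h, mul_comm (clsMod hWi), mul_inv_cancel_left])
  obtain ⟨v⟩ := nonempty_sheafHom_iso hL u
  obtain ⟨e⟩ := DualSm27.nonempty_dual_HH k n 2 X ι hι W hW L
    (Euler.isFinLocFree_of_isInvertible hL) p hp
  rw [← Subspace.dual_finrank_eq, e.finrank_eq, (SerrePn27.hhMapEquiv (k := k) v (2 - p)).finrank_eq]

include hι hW in
/-- Serre duality on Euler characteristics. -/
theorem chi_serre (hWi : PicF.IsInvertible W) (x : Pic X) : chi k (clsMod hWi * x⁻¹) = chi k x := by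
  have hd := topologicalKrullDim_le_two ι hι
  haveI := Euler.isNoetherian_of_proper (X := X) k
  let L := rep x
  let M := rep (clsMod hWi * x⁻¹)
  have hL : PicF.IsInvertible L := isInv_rep x
  have hM : PicF.IsInvertible M := isInv_rep _
  rcases isEmpty_or_nonempty X with he | hne
  · exact Euler.euler_of_iso k (IsZero.iso
      (Hilb20.isZero_of_support_eq_empty (Set.eq_empty_of_isEmpty _))
      (Hilb20.isZero_of_support_eq_empty (Set.eq_empty_of_isEmpty _)))
  have key : ∀ p, p ≤ 2 → Module.finrank k (Coh.HH X L p) = Module.finrank k (Coh.HH X M (2 - p)) := fun p hp =>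
    hh_serre k ι hι W hW hWi hL hM (by rw [cls_rep, cls_rep]) hp
  have hA := HodgeIndex.isAmple_hyperplane ι
  have hs : ∀ E : X.Modules, PicF.IsInvertible E → Curv2.euler k X E =
      ∑ i ∈ Finset.range 3, (-1 : ℤ) ^ i * (Module.finrank k (Coh.HH X E i) : ℤ) := fun E hE =>
    Euler.euler_eq_sum k E (N := 3) fun i hi =>
      HodgeIndex.subsingleton_HH_of_dimLT k hA 3 E (Euler.isCoh_of_isInvertible hE)
        ((Kleiman.dimLT_univ hd).mono fun _ _ => trivial) i hi
  show Curv2.euler k X M = Curv2.euler k X L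
  rw [hs M hM, hs L hL]
  simp only [Finset.sum_range_succ, Finset.sum_range_zero, key 0 (by omega), key 1 (by omega), key 2 le_rfl]
  ring

include hι hW in
theorem isInvertible_canonical : PicF.IsInvertible W := DualSm27.isInvertible_top k n 2 X ι hι W hW

include hι hW in
/-- Riemann–Roch. -/
theorem riemann_roch {L : X.Modules} (hL : PicF.IsInvertible L) :
    2 * Curv2.euler k X L = FGA.intNum k X 2 ![L, L] (Coh.structureModule X) -
      FGA.intNum k X 2 ![L, W] (Coh.structureModule X) + 2 * Curv2.euler k X (Coh.structureModule X) := by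
  have hd := topologicalKrullDim_le_two ι hι
  have hWi := isInvertible_canonical k ι hι W hW
  have hA := HodgeIndex.isAmple_hyperplane ι
  rw [HodgeIndex.intNum_eq_isect k hd hA hL hL, HodgeIndex.intNum_eq_isect k hd hA hL hWi, HodgeIndex.euler_eq_chi k hL,
    ← HodgeIndex.chi_one k]
  obtain ⟨x, hx⟩ : ∃ x, x = clsMod hL := ⟨_, rfl⟩
  obtain ⟨w, hw⟩ : ∃ w, w = clsMod hWi := ⟨_, rfl⟩
  rw [← hx, ← hw]
  have h1 := chi_serre k ι hι W hW hWi (1 : Pic X)
  have h2 := chi_serre k ι hι W hW hWi x⁻¹
  rw [← hw, inv_one, mul_one] at h1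
  rw [← hw, inv_inv, mul_comm] at h2
  have h3 := HodgeIndex.isect_inv_right k hd x x
  simp only [isect, mul_inv_cancel, h1, h2] at h3 ⊢
  linarith

include hι hW in
/-- Adjunction for an effective Cartier divisor. -/
theorem adjunction {C : Scheme.{u}} [C.Over (Spec (CommRingCat.of k))] (i : C ⟶ X) [IsClosedImmersion i]
    (hi : i ≫ X ↘ Spec (CommRingCat.of k) = C ↘ Spec (CommRingCat.of k))
    (hI : PicF.IsInvertible (ClSub.idealMod i.ker)) :
    FGA.intNum k X 2 ![ClSub.idealMod i.ker, ClSub.idealMod i.ker] (Coh.structureModule X) -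
        FGA.intNum k X 2 ![ClSub.idealMod i.ker, W] (Coh.structureModule X) =
      -2 * Curv2.euler k C (Coh.structureModule C) := by
  haveI := Euler.isNoetherian_of_proper (X := X) k
  have hRR := riemann_roch k ι hι W hW hI
  haveI := Euler.epi_toSubscheme i.ker
  let S := ShortComplex.mk (ClSub.idealModι i.ker) (ClSub.toSubscheme i.ker) (kernel.condition _)
  haveI : Mono S.f := inferInstanceAs (Mono (kernel.ι (ClSub.toSubscheme i.ker)))
  haveI : Epi S.g := Euler.epi_toSubscheme i.ker
  have hS : S.ShortExact := { exact := ShortComplex.exact_of_f_is_kernel _ (kernelIsKernel _) }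
  have hadd := Euler.euler_additive k hS (Euler.isCoh_of_isInvertible hI) (Kleiman.isCoh_O k)
    (QCoh.pushUnit_isCoh i.ker.subschemeι)
  have hC : Curv2.euler k C (Coh.structureModule C) = Curv2.euler k X (ClSub.quotMod i.ker) := by
    rw [← Euler.euler_of_iso k (Ample.nonempty_pullback_structureModule i).some,
      Kleiman.euler_pullback_eq_quotMod k i hi Euler.isInvertible_structure]
    exact Kleiman.euler_tensor_structure k _
  have hadd' : Curv2.euler k X (Coh.structureModule X) = Curv2.euler k X (ClSub.idealMod i.ker) +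
      Curv2.euler k X (ClSub.quotMod i.ker) := hadd
  linarith

end GrothLib.SurfRR28
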