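import Groth.Agent.Lib.SurfRR28.Basic
import Groth.Agent.Lib.Goodman.Main
import Groth.Agent.Lib.Ref1.Connected
import Groth.Agent.Lib.LocNoeth.Scheme
import Groth.Agent.Lib.Euler.AmpleExists
import Groth.Agent.Lib.Adj27.Variety
import Mathlib.AlgebraicGeometry.ZariskisMainTheorem

/-!
# Smooth proper surfaces over a field are projective and equidimensional smooth
-/

set_option autoImplicit false
set_option maxHeartbeats 800000
set_option backward.isDefEq.respectTransparency false
set_option linter.all false

universe u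

open CategoryTheory CategoryTheory.Limits AlgebraicGeometry TopologicalSpace

noncomputable section

namespace GrothLib.SurfRR28

variable (k : Type u) [Field k] {X : Scheme.{u}} [X.Over (Spec (CommRingCat.of k))]
  [IsProper (X ↘ Spec (CommRingCat.of k))] [Smooth (X ↘ Spec (CommRingCat.of k))]

include k in
/-- The irreducible components of a smooth proper scheme are the connected components; they are integral. -/
theorem component_facts {Z : Set X} (hZ : Z ∈ irreducibleComponents (X : Type u)) :
    ∃ U : X.Opens, (U : Set X) = Z ∧ IsClosed (U : Set X) ∧ IsIntegral U.toScheme ∧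
      ∀ x ∈ Z, connectedComponent x = Z := by
  haveI := Euler.isNoetherian_of_proper (X := X) k
  obtain ⟨x, hx⟩ := hZ.1.nonempty
  have key : ∀ y : X, ∃ U : X.Opens, (U : Set X) = connectedComponent y ∧ IsIntegral U.toScheme := by
    intro y
    let U : X.Opens := ⟨connectedComponent y, (LocNoeth.isLocNoeth X).isOpen_connectedComponent y⟩
    haveI : ConnectedSpace U.toScheme := isConnected_iff_connectedSpace.mp isConnected_connectedComponent
    haveI : IsNoetherian U.toScheme := by
      haveI : CompactSpace U.toScheme := isCompact_iff_compactSpace.mp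
        (isClosed_connectedComponent (x := y)).isCompact
      haveI : IsLocallyNoetherian U.toScheme := LocallyOfFiniteType.isLocallyNoetherian U.ι
      exact {}
    refine ⟨U, rfl, Ref1.isIntegral_of_connected fun u => ?_⟩
    haveI := HodgeIndex.regular_of_smooth k (U.ι u)
    haveI := CMFree.isDomain_of_isRegularLocalRing (X.presheaf.stalk (U.ι u))
    exact MulEquiv.isDomain (X.presheaf.stalk (U.ι u))
      (asIso (U.ι.stalkMap u)).symm.commRingCatIsoToRingEquiv.toMulEquiv
  have heq : ∀ y ∈ Z, connectedComponent y = Z := by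
    intro y hy
    obtain ⟨U, hU, hUi⟩ := key y
    have hirr : IsIrreducible (connectedComponent y) := by
      rw [← hU]
      exact isIrreducible_iff_irreducibleSpace.mpr (inferInstanceAs (IrreducibleSpace U.toScheme))
    exact Set.Subset.antisymm (hZ.2 hirr (hZ.1.isConnected.subset_connectedComponent hy))
      (hZ.1.isConnected.subset_connectedComponent hy)
  obtain ⟨U, hU, hUi⟩ := key x
  exact ⟨U, hU.trans (heq x hx), hU ▸ isClosed_connectedComponent, hUi, heq⟩

theorem smoothOfRelativeDimension_two
    (hdim : ∀ Z ∈ irreducibleComponents (X : Type u), topologicalKrullDim Z = 2) :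
    SmoothOfRelativeDimension 2 (X ↘ Spec (CommRingCat.of k)) := by
  choose U hU hUc hUi hUcomp using fun x : X =>
    component_facts k (irreducibleComponent_mem_irreducibleComponents x)
  refine IsZariskiLocalAtSource.of_iSup_eq_top (P := @SmoothOfRelativeDimension 2) U
    (eq_top_iff.mpr fun x _ => Opens.mem_iSup.mpr ⟨x, by
      rw [← SetLike.mem_coe, hU]; exact mem_irreducibleComponent⟩) fun x => ?_
  have h2 := hdim _ (irreducibleComponent_mem_irreducibleComponents x)
  rw [← hU x] at h2
  haveI := hUi x
  exact DimCut.smoothOfRelativeDimension ((U x).ι ≫ X ↘ Spec (CommRingCat.of k)) 2 h2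

theorem topologicalKrullDim_le_two' (hdim : ∀ Z ∈ irreducibleComponents (X : Type u), topologicalKrullDim Z = 2) :
    topologicalKrullDim X ≤ ((2 : ℕ) : WithBot ℕ∞) :=
  SerrePn27.topologicalKrullDim_le_of_components fun Z hZ => (hdim Z hZ).le

/-- A smooth proper surface embeds into a projective space. -/
theorem exists_closedImmersion (hdim : ∀ Z ∈ irreducibleComponents (X : Type u), topologicalKrullDim Z = 2) :
    ∃ (n : ℕ) (ι : X ⟶ CohB1.ProjSpace n k), IsClosedImmersion ι ∧
      ι ≫ CohB1.ProjSpace.toSpec n k = X ↘ Spec (CommRingCat.of k) := by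
  classical
  haveI := Euler.isNoetherian_of_proper (X := X) k
  let S := Spec (CommRingCat.of k)
  let str : X ⟶ S := X ↘ Spec (CommRingCat.of k)
  let J := irreducibleComponents (X : Type u)
  haveI : Finite J := (NoetherianSpace.finite_irreducibleComponents (α := X)).to_subtype
  obtain ⟨r, ⟨eJ⟩⟩ := Finite.exists_equiv_fin J
  choose U hU hUc hUi hUcomp using fun j : Fin r => component_facts k (eJ.symm j).2
  have hpiece : ∀ j, ∃ (N : ℕ) (i : (U j).toScheme ⟶ CohB1.ProjSpaceOver N S),
      IsClosedImmersion i ∧ i ≫ CohB1.ProjSpaceOver.toBase N S = (U j).ι ≫ str := by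
    intro j
    haveI := hUi j
    haveI : IsClosedImmersion (U j).ι := IsClosedImmersion.of_isPreimmersion _ (by
      rw [Scheme.Opens.range_ι]; exact hUc j)
    letI : (U j).toScheme.Over (Spec (CommRingCat.of k)) := ⟨(U j).ι ≫ str⟩
    haveI : IsProper ((U j).toScheme ↘ Spec (CommRingCat.of k)) := inferInstanceAs (IsProper ((U j).ι ≫ str))
    haveI : Smooth ((U j).toScheme ↘ Spec (CommRingCat.of k)) := inferInstanceAs (Smooth ((U j).ι ≫ str))
    have hd : topologicalKrullDim (U j).toScheme = ((2 : ℕ) : WithBot ℕ∞) := by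
      have h2 := hdim _ (eJ.symm j).2
      rw [← hU j] at h2
      exact h2
    obtain ⟨A, hA⟩ := Goodman.exists_ample_of_smooth_surface k hd
    obtain ⟨N, i, hi, hif⟩ := Ample.exists_immersion_of_isAmple ((U j).ι ≫ str) hA
    haveI := hi
    haveI := Chow.isProper_toBase N S
    haveI : IsProper (i ≫ CohB1.ProjSpaceOver.toBase N S) := hif ▸ inferInstance
    haveI : IsProper i := IsProper.of_comp i (CohB1.ProjSpaceOver.toBase N S)
    exact ⟨N, i, Chow.isClosedImmersion_of_isImmersion_of_isProper i, hif⟩
  choose N i hi hif using hpiece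
  let Y : Scheme.{u} := ∐ fun j => (U j).toScheme
  let π : Y ⟶ X := Sigma.desc fun j => (U j).ι
  have hdisj : Pairwise (Function.onFun Disjoint fun j => Set.range (U j).ι) := by
    intro a b hab
    rw [Function.onFun, Scheme.Opens.range_ι, Scheme.Opens.range_ι, hU a, hU b, Set.disjoint_left]
    intro x hxa hxb
    exact hab (eJ.symm.injective (Subtype.ext ((hUcomp a x hxa).symm.trans (hUcomp b x hxb))))
  haveI : IsOpenImmersion π := isOpenImmersion_sigmaDesc (g := fun j => (U j).toScheme) (fun j => (U j).ι) hdisj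
  haveI : Surjective π := Surjective.sigmaDesc_of_union_range_eq_univ (Set.eq_univ_of_forall fun x =>
    Set.mem_iUnion.2 ⟨eJ ⟨_, irreducibleComponent_mem_irreducibleComponents x⟩, by
      rw [Scheme.Opens.range_ι, hU, eJ.symm_apply_apply]; exact mem_irreducibleComponent⟩)
  haveI : IsIso π := (isIso_iff_isOpenImmersion_and_surjective π).2 ⟨inferInstance, inferInstance⟩
  -- maps defined on all of `Y`
  let sec : ∀ M : ℕ, S ⟶ CohB1.ProjSpaceOver M S := fun M =>
    pullback.lift (specULiftZIsTerminal.from S ≫ ProjSp.sec M (ULift.{u} ℤ)) (𝟙 S)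
      (by rw [Category.assoc, ProjSp.sec_toSpec, Category.comp_id, Category.id_comp])
  have hsec : ∀ M, sec M ≫ CohB1.ProjSpaceOver.toBase M S = 𝟙 S := fun M => pullback.lift_snd _ _ _
  let g : ∀ j, Y ⟶ CohB1.ProjSpaceOver (N j) S := fun j =>
    Sigma.desc fun a => if h : a = j then eqToHom (by rw [h]) ≫ i j else (U a).ι ≫ str ≫ sec (N j)
  have hg : ∀ j, g j ≫ CohB1.ProjSpaceOver.toBase (N j) S = π ≫ str := by
    intro j
    refine Sigma.hom_ext _ _ fun a => ?_
    simp only [g, π, Sigma.ι_desc_assoc]
    split_ifs with h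
    · subst h
      simp [hif]
    · simp [hsec]
  have hgs : ∀ j, Sigma.ι (fun a => (U a).toScheme) j ≫ g j = i j := fun j => by
    simp [g]
  obtain ⟨M, P, b, c, p, uP, hc, hcb, hpb, hup, hub⟩ := Chow.exists_product (π ≫ str) r N g hg
  haveI := hc
  haveI := Chow.isProper_toBase M S
  haveI : IsProper b := hcb ▸ inferInstance
  haveI : ∀ j, IsSeparated (p j) := fun j => by
    haveI : IsSeparated (p j ≫ CohB1.ProjSpaceOver.toBase (N j) S) := (hpb j).symm ▸ inferInstance
    exact IsSeparated.of_comp (p j) (CohB1.ProjSpaceOver.toBase (N j) S)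
  haveI : ∀ j, IsClosedImmersion (Sigma.ι (fun a => (U a).toScheme) j ≫ uP) := fun j => by
    haveI : IsClosedImmersion ((Sigma.ι (fun a => (U a).toScheme) j ≫ uP) ≫ p j) := by
      rw [Category.assoc, hup, hgs]; exact hi j
    exact IsClosedImmersion.of_comp (Sigma.ι (fun a => (U a).toScheme) j ≫ uP) (p j)
  haveI : LocallyQuasiFinite uP := by
    have e : uP = Sigma.desc fun j => Sigma.ι (fun a => (U a).toScheme) j ≫ uP :=
      Sigma.hom_ext _ _ fun j => by rw [Sigma.ι_desc]
    rw [e]
    exact IsZariskiLocalAtSource.sigmaDesc fun j => inferInstance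
  haveI : IsProper uP := by
    haveI : IsProper (uP ≫ b) := hub.symm ▸ inferInstance
    exact IsProper.of_comp uP b
  haveI : IsFinite uP := IsFinite.of_isProper_of_locallyQuasiFinite uP
  haveI := Ample.ProjMap.isClosedImmersion_toProjSpace M k
  let q : X ⟶ CohB1.ProjSpace M k := inv π ≫ uP ≫ c ≫ Ample.ProjMap.toProjSpace M k
  haveI : IsAffineHom q := inferInstance
  haveI : AlgebraicGeometry.IsNoetherian (CohB1.ProjSpace M k) := CMReg.isNoetherian_projSpace
  have hA : CohB1.IsAmple ((Scheme.Modules.pullback q).obj (Twist.twistProjSpace M k 1)) :=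
    Ample.isAmple_pullback_of_isAffineHom (Y := X) (X := CohB1.ProjSpace M k) q (Ample.isAmple_twistProjSpace_one M k)
  obtain ⟨n, ι, hι, hιf⟩ := Ample.exists_immersion_of_isAmple str hA
  haveI := hι
  haveI := Chow.isProper_toBase n S
  haveI : IsProper (ι ≫ CohB1.ProjSpaceOver.toBase n S) := hιf ▸ inferInstance
  haveI : IsProper ι := IsProper.of_comp ι (CohB1.ProjSpaceOver.toBase n S)
  haveI := Chow.isClosedImmersion_of_isImmersion_of_isProper ι
  haveI := Ample.ProjMap.isClosedImmersion_toProjSpace n k
  refine ⟨n, ι ≫ Ample.ProjMap.toProjSpace n k, inferInstance, ?_⟩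
  rw [Category.assoc, Ample.ProjMap.toProjSpace_toSpec]
  exact hιf

end GrothLib.SurfRR28
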