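import Groth.Agent.Lib.SurfRR28.Proper
import Groth.Agent.Lib.SerrePn27.CMDuality
import Groth.Agent.Lib.SerrePn27.LocFree
import Groth.Agent.Lib.SyntLoc.Field
import Groth.Prelude.Def_Dual3

/-!
# Riemann–Roch on a projective Cohen–Macaulay surface with invertible dualizing sheaf
-/

set_option autoImplicit false
set_option maxHeartbeats 800000
set_option backward.isDefEq.respectTransparency false
set_option linter.all false

universe u

open CategoryTheory CategoryTheory.Limits AlgebraicGeometry TopologicalSpace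
open CategoryTheory.Abelian (Ext)

noncomputable section

namespace GrothLib.SurfRR28

open GrothLib.Cube (Pic clsMod)
open GrothLib.HodgeIndex (chi isect rep isInv_rep cls_rep)

theorem isCohenMacaulay_stalk_of_isLCIMor {k : Type u} [Field k] {X : Scheme.{u}} (f : X ⟶ Spec (CommRingCat.of k))
    (hf : Dual3.IsLCIMor f) (x : X) : LocCoh.IsCohenMacaulayLocalRing (X.presheaf.stalk x) := by
  obtain ⟨U, V, e, hxU, h⟩ := hf x
  have hfld : IsField Γ(Spec (CommRingCat.of k), V.1) := by
    have hV : V.1 = ⊤ := by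
      ext a
      simp only [Opens.coe_top, Set.mem_univ, iff_true]
      rw [Subsingleton.elim a (f x)]
      exact e hxU
    rw [hV]
    exact MulEquiv.isField (Field.toIsField k)
      (Scheme.ΓSpecIso (CommRingCat.of k)).commRingCatIsoToRingEquiv.toMulEquiv
  letI := hfld.toField
  letI := (f.appLE V.1 U.1 e).hom.toAlgebra
  haveI : LocCoh.IsCohenMacaulayRing Γ(X, U.1) := SyntLoc.isCohenMacaulayRing_of_isLCI h
  let q := U.2.primeIdealOf ⟨x, hxU⟩
  haveI : LocCoh.IsCohenMacaulayLocalRing (Localization.AtPrime q.asIdeal) :=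
    LocCoh.IsCohenMacaulayRing.isCohenMacaulayLocalRing_localization q.asIdeal
  letI := TopCat.Presheaf.algebra_section_stalk X.presheaf (⟨x, hxU⟩ : U.1)
  haveI : IsLocalization.AtPrime (X.presheaf.stalk x) q.asIdeal := U.2.isLocalization_stalk ⟨x, hxU⟩
  exact HB26.isCohenMacaulayLocalRing_of_ringEquiv
    (IsLocalization.algEquiv q.asIdeal.primeCompl (Localization.AtPrime q.asIdeal) (X.presheaf.stalk x)).toRingEquiv

variable (k : Type u) [Field k] {X : Scheme.{u}} [X.Over (Spec (CommRingCat.of k))] [IsIntegral X]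
  {n : ℕ} (ι : X ⟶ CohB1.ProjSpace n k) [IsClosedImmersion ι]
  (hι : ι ≫ CohB1.ProjSpace.toSpec n k = X ↘ Spec (CommRingCat.of k))
  (hdim : topologicalKrullDim X = ((2 : ℕ) : WithBot ℕ∞))
  (hCM : ∀ x : X, LocCoh.IsCohenMacaulayLocalRing (X.presheaf.stalk x))
  {ω : X.Modules} (hωcoh : Coh.IsCoh ω) (hωinv : PicF.IsInvertible ω) (t : Coh.HH X ω 2 →ₗ[k] k)
  (hdual : ∀ F : X.Modules, Coh.IsCoh F → ∀ ψ : Coh.HH X F 2 →ₗ[k] k,
      ∃! φ : F ⟶ ω, ∀ x : Coh.HH X F 2,
        ψ x = t (Sheaf.H.map ((SheafOfModules.toSheaf X.ringCatSheaf).map φ) 2 x))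

include hι hdim hCM hωcoh hωinv t hdual in
theorem chi_dualizing (x : Pic X) : chi k (clsMod hωinv * x⁻¹) = chi k x := by
  haveI := HodgeIndex.isProper_of_proj ι hι
  haveI := Euler.isNoetherian_of_proper (X := X) k
  haveI : HasExt.{u} X.Modules := CategoryTheory.hasExt_of_enoughInjectives X.Modules
  let L := rep x
  let M := rep (clsMod hωinv * x⁻¹)
  have hL : PicF.IsInvertible L := isInv_rep x
  have hM : PicF.IsInvertible M := isInv_rep _
  have hcomp : ∀ Z : Set X, Z ∈ irreducibleComponents (X : Type u) →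
      topologicalKrullDim Z = ((2 : ℕ) : WithBot ℕ∞) := fun Z hZ => by
    rw [irreducibleComponents_eq_singleton, Set.mem_singleton_iff] at hZ
    subst hZ
    exact (Homeomorph.Set.univ X).isHomeomorph.topologicalKrullDim_eq.trans hdim
  have hcl : ∀ y : X, IsClosed ({y} : Set X) →
      LocCoh.IsCohenMacaulayLocalRing (X.presheaf.stalk y) ∧ ringKrullDim (X.presheaf.stalk y) = ((2 : ℕ) : WithBot ℕ∞) :=
    fun y hy => ⟨hCM y, by
      have h := CodimExt27.ptDim_add_dim_stalk (X ↘ Spec (CommRingCat.of k)) hcomp y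
      rwa [AffDom.ptDim_closedPoint hy, zero_add] at h⟩
  haveI : DCoh.HasSheafHom L := LocFreeHom.hasSheafHom L
  obtain ⟨u⟩ : Nonempty (CohB1.tensorMod L M ≅ ω) :=
    (Cube.clsMod_eq_iff (Ample.isInvertible_tensorMod hL hM) hωinv).1 (by
      rw [Cube.clsMod_tensorMod hL hM, cls_rep, cls_rep, mul_comm (clsMod hωinv), mul_inv_cancel_left])
  obtain ⟨v⟩ := nonempty_sheafHom_iso hL u
  have key : ∀ p, p ≤ 2 → Module.finrank k (Coh.HH X L p) = Module.finrank k (Coh.HH X M (2 - p)) := by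
    intro p hp
    obtain ⟨a⟩ := (SerrePn27.dualityCM ι hι hdim hcl hωcoh t hdual L (Euler.isCoh_of_isInvertible hL)).1 (2 - p) (by omega)
    obtain ⟨b⟩ := SerrePn27.nonempty_ext_linearEquiv_HH_of_finLocFree (k := k)
      (Euler.isFinLocFree_of_isInvertible hL) (2 - p) ω
    rw [show 2 - (2 - p) = p by omega] at a
    rw [← Subspace.dual_finrank_eq, ← a.finrank_eq, b.finrank_eq, (SerrePn27.hhMapEquiv (k := k) v (2 - p)).finrank_eq]
  have hA := HodgeIndex.isAmple_hyperplane ι
  show Curv2.euler k X M = Curv2.euler k X L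
  rw [euler_eq_three_terms k (hd := hdim.le) hA (Euler.isCoh_of_isInvertible hM),
    euler_eq_three_terms k (hd := hdim.le) hA (Euler.isCoh_of_isInvertible hL), key 0 (by omega), key 1 (by omega),
    key 2 le_rfl]
  ring

include hι hdim hCM hωcoh hωinv t hdual in
theorem riemann_roch_dualizing {L : X.Modules} (hL : PicF.IsInvertible L) :
    2 * Curv2.euler k X L = FGA.intNum k X 2 ![L, L] (Coh.structureModule X) -
      FGA.intNum k X 2 ![L, ω] (Coh.structureModule X) + 2 * Curv2.euler k X (Coh.structureModule X) := by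
  haveI := HodgeIndex.isProper_of_proj ι hι
  rw [intNum_eq_isect' k hdim.le hL hL, intNum_eq_isect' k hdim.le hL hωinv, HodgeIndex.euler_eq_chi k hL,
    ← HodgeIndex.chi_one k]
  obtain ⟨x, hx⟩ : ∃ x, x = clsMod hL := ⟨_, rfl⟩
  obtain ⟨w, hw⟩ : ∃ w, w = clsMod hωinv := ⟨_, rfl⟩
  rw [← hx, ← hw]
  have h1 := chi_dualizing k ι hι hdim hCM hωcoh hωinv t hdual (1 : Pic X)
  have h2 := chi_dualizing k ι hι hdim hCM hωcoh hωinv t hdual x⁻¹
  rw [← hw, inv_one, mul_one] at h1
  rw [← hw, inv_inv, mul_comm] at h2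
  have h3 := HodgeIndex.isect_inv_right k hdim.le x x
  simp only [isect, mul_inv_cancel, h1, h2] at h3 ⊢
  linarith

end GrothLib.SurfRR28
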