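import Groth.Agent.Lib.SurfRR28.Curve

/-!
# The adjunction formula in terms of classes
-/

set_option autoImplicit false
set_option maxHeartbeats 800000
set_option backward.isDefEq.respectTransparency false
set_option linter.all false

universe u

open CategoryTheory CategoryTheory.Limits AlgebraicGeometry TopologicalSpace

noncomputable section

namespace GrothLib.SurfRR28

open GrothLib.Cube (Pic clsMod)
open GrothLib.HodgeIndex (isect cCl chi)

variable (k : Type u) [Field k] {X : Scheme.{u}} [X.Over (Spec (CommRingCat.of k))]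
  [IsProper (X ↘ Spec (CommRingCat.of k))] [IsIntegral X] [Smooth (X ↘ Spec (CommRingCat.of k))]
  (hdim : topologicalKrullDim X = ((2 : ℕ) : WithBot ℕ∞)) {A : X.Modules} (hA : CohB1.IsAmple A)
  {W : X.Modules} (hW : ExtPow.IsExtPow 2 (Omega.sheaf (X ↘ Spec (CommRingCat.of k))) W)
  (C : X.IdealSheafData) (hCi : IsIntegral C.subscheme) (hCd : topologicalKrullDim (C.support : Set X) = 1)

include hdim hW in
theorem isInvertible_W : PicF.IsInvertible W := by
  obtain ⟨hs2, n, ι, hι, hιc⟩ := exists_embedding k X hdim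
  haveI := hs2
  haveI := hι
  exact isInvertible_canonical k ι hιc W hW

include hdim hA hW hCi hCd in
/-- `C · (C + K) = -2 χ(O_C)`. -/
theorem adjunction_isect : isect k (cCl C) (cCl C) + isect k (cCl C) (clsMod (isInvertible_W k hdim hW)) =
    -2 * Curv2.euler k X (ClSub.quotMod C) := by
  obtain ⟨hs2, n, ι, hι, hιc⟩ := exists_embedding k X hdim
  haveI := hs2
  haveI := hι
  have hI := HodgeIndex.inv_curve k hdim hCi hCd
  letI : C.subscheme.Over (Spec (CommRingCat.of k)) := ⟨C.subschemeι ≫ X ↘ Spec (CommRingCat.of k)⟩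
  have h := adjunction k ι hιc W hW C.subschemeι rfl (by rw [C.ker_subschemeι]; exact hI)
  rw [C.ker_subschemeι, ← Snapper.euler_quotMod k C,
    HodgeIndex.intNum_curve k hdim hCi hCd hA hI, HodgeIndex.intNum_curve k hdim hCi hCd hA (isInvertible_W k hdim hW)] at h
  rw [show cCl C = (clsMod hI)⁻¹ by rw [cCl, dif_pos hI]] at h ⊢
  simp only [HodgeIndex.isect_inv_left k hdim.le, HodgeIndex.isect_inv_right k hdim.le] at h ⊢
  rw [HodgeIndex.isect_comm k (clsMod (isInvertible_W k hdim hW))] at h
  linarith

end GrothLib.SurfRR28
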