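import Groth.Agent.Lib.SurfRR28.Projective
import Groth.Agent.Lib.Kodaira.Cones
import Groth.Agent.Lib.FreeRetract9.Basic
import Groth.Agent.Lib.Goodman.Effective
import Groth.Agent.Lib.HodgeIndex.NegCurves

/-!
# Effective classes on a surface
-/

set_option autoImplicit false
set_option maxHeartbeats 800000
set_option backward.isDefEq.respectTransparency false
set_option linter.all false

universe u

open CategoryTheory CategoryTheory.Limits AlgebraicGeometry TopologicalSpace Opposite

noncomputable section

namespace GrothLib.SurfRR28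

open GrothLib.Cube (Pic clsMod)
open GrothLib.Kodaira (PLe)

/-- A non-zero section gives an effective class. -/
theorem pLe_one_of_nontrivial {X : Scheme.{u}} [IsIntegral X] {L : X.Modules} (hL : PicF.IsInvertible L)
    (h : Nontrivial (Coh.HH X L 0)) : PLe (1 : Pic X) (clsMod hL) := by
  obtain ⟨v, hv⟩ := exists_ne (0 : Coh.HH X L 0)
  let s : Coh.structureModule X ⟶ L :=
    (SheafOfModules.unitHomEquiv L).symm (FreeRetract9.secOf L (ProjCoh.H0top L v))
  rw [← (Cube.clsMod_eq_one_iff (Euler.isInvertible_structure (X := X))).2 ⟨Iso.refl _⟩, Kodaira.pLe_iff]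
  refine ⟨s, Euler.mono_of_ne_zero Euler.isInvertible_structure hL fun h0 => hv ?_⟩
  refine (ProjCoh.H0top L).injective ?_
  rw [map_zero]
  have h1 : s.app ⊤ (1 : Γ(X, ⊤)) =
      L.presheaf.map (homOfLE (le_top (a := (⊤ : X.Opens)))).op (ProjCoh.H0top L v) :=
    congrArg (fun c : SheafOfModules.sections L => c.val (op ⊤))
      ((SheafOfModules.unitHomEquiv L).apply_symm_apply (FreeRetract9.secOf L (ProjCoh.H0top L v)))
  rw [h0] at h1
  refine ((h1.trans ?_).symm.trans (AddMonoidHom.zero_apply _))
  exact InvExt.mres_self L _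

variable (k : Type u) [Field k] {X : Scheme.{u}} [X.Over (Spec (CommRingCat.of k))]
  [IsProper (X ↘ Spec (CommRingCat.of k))] [IsIntegral X]

include k in
/-- An effective class has a non-zero section. -/
theorem nontrivial_of_pLe_one {L : X.Modules} (hL : PicF.IsInvertible L) (h : PLe (1 : Pic X) (clsMod hL)) :
    Nontrivial (Coh.HH X L 0) := by
  rw [← (Cube.clsMod_eq_one_iff (Euler.isInvertible_structure (X := X))).2 ⟨Iso.refl _⟩] at h
  have h1 := Kodaira.h0_le_of_pLe k Euler.isInvertible_structure hL h
  haveI : Nontrivial (Coh.HH X (Coh.structureModule X) 0) := (ProjCoh.H0top (Coh.structureModule X)).toEquiv.nontrivial (β := Γ(X, ⊤))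
  haveI := Euler.finiteDimensional_HH k (Kleiman.isCoh_O (X := X) k) 0
  have h2 : 0 < Kodaira.h0 k (Coh.structureModule X) := Module.finrank_pos
  exact Module.nontrivial_of_finrank_pos (R := k) (h2.trans_le h1)

theorem euler_eq_three_terms {hd : topologicalKrullDim X ≤ ((2 : ℕ) : WithBot ℕ∞)} {A : X.Modules}
    (hA : CohB1.IsAmple A) {F : X.Modules} (hF : Coh.IsCoh F) : Curv2.euler k X F =
      (Module.finrank k (Coh.HH X F 0) : ℤ) - Module.finrank k (Coh.HH X F 1) + Module.finrank k (Coh.HH X F 2) := by
  rw [Euler.euler_eq_sum k F (N := 3) fun i hi => HodgeIndex.subsingleton_HH_of_dimLT k hA 3 F hF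
    ((Kleiman.dimLT_univ hd).mono fun _ _ => trivial) i hi]
  simp [Finset.sum_range_succ]
  ring

end GrothLib.SurfRR28

namespace GrothLib.SurfRR28

open GrothLib.Cube (Pic clsMod)

theorem clsMod_structure {X : Scheme.{u}} :
    clsMod (Euler.isInvertible_structure (X := X)) = (1 : Pic X) := (Cube.clsMod_eq_one_iff _).2 ⟨Iso.refl _⟩

/-- A projective embedding and smoothness of relative dimension two, for an integral smooth proper surface. -/
theorem exists_embedding (k : Type u) [Field k] (X : Scheme.{u}) [X.Over (Spec (CommRingCat.of k))]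
    [IsProper (X ↘ Spec (CommRingCat.of k))] [Smooth (X ↘ Spec (CommRingCat.of k))] [IsIntegral X]
    (hdim : topologicalKrullDim X = 2) :
    SmoothOfRelativeDimension 2 (X ↘ Spec (CommRingCat.of k)) ∧
      ∃ (n : ℕ) (ι : X ⟶ CohB1.ProjSpace n k), IsClosedImmersion ι ∧
        ι ≫ CohB1.ProjSpace.toSpec n k = X ↘ Spec (CommRingCat.of k) := by
  have hd : ∀ Z ∈ irreducibleComponents (X : Type u), topologicalKrullDim Z = 2 := by
    intro Z hZ
    rw [irreducibleComponents_eq_singleton, Set.mem_singleton_iff] at hZ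
    subst hZ
    exact (Homeomorph.Set.univ X).isHomeomorph.topologicalKrullDim_eq.trans hdim
  exact ⟨smoothOfRelativeDimension_two k hd, exists_closedImmersion k hd⟩

end GrothLib.SurfRR28
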